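import Groth.Agent.Lib.Helper2.RegBlow.Alg
import Groth.Agent.Lib.Helper2.CMBlow.Sch
import Groth.Agent.Lib.Helper2.BlowReg.Main
import Groth.Agent.S2889

/-!
# The blow-up of a regular scheme along a regular closed subscheme is regular (helper2)
-/

set_option autoImplicit false
set_option linter.style.haveILetI false
set_option linter.unusedSectionVars false
universe u

open CategoryTheory CategoryTheory.Limits AlgebraicGeometry Opposite TopologicalSpace

namespace Groth.Agent.Lib.Helper2.RegBlow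

open Groth.Agent.Lib.Helper2.ExcSm Groth.Agent.Lib.Helper18.DSch

theorem isRegularRing_sections {X : Scheme.{u}} [IsLocallyNoetherian X]
    (hreg : ∀ x : X, IsRegularLocalRing (X.presheaf.stalk x)) (U : X.affineOpens) :
    IsRegularRing Γ(X, U.1) := by
  haveI : IsNoetherianRing Γ(X, U.1) := IsLocallyNoetherian.component_noetherian U
  rw [isRegularRing_iff]
  intro p hp
  haveI := hreg (U.2.fromSpec ⟨p, hp⟩)
  exact IsRegularLocalRing.of_ringEquiv (stalkEquiv U ⟨p, hp⟩).symm

/-- variant of `isRegularRing_Rp` with a propositional equality for the ideal. -/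
theorem isRegularRing_Rp' {A : Type u} [CommRing A] [IsRegularRing A] {r : ℕ} (f : Fin r → A)
    (i₀ : Fin r) (I : Ideal A) (hI : I = Ideal.span (Set.range f)) [hB : IsRegularRing (A ⧸ I)]
    (hf : RingTheory.Sequence.IsWeaklyRegular A (List.ofFn f)) :
    IsRegularRing ↥(BlowUp.affineAlgebra A I (f i₀)) := by
  subst hI
  exact isRegularRing_Rp f i₀ hf

/-- a closed immersion of regular locally Noetherian schemes is a regular immersion. -/
theorem isRegularClosedImmersion_of_regular {X Y : Scheme.{u}} [IsLocallyNoetherian X]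
    (i : Y ⟶ X) [IsClosedImmersion i]
    (hX : ∀ x : X, IsRegularLocalRing (X.presheaf.stalk x))
    (hY : ∀ y : Y, IsRegularLocalRing (Y.presheaf.stalk y)) :
    Mor2.IsRegularClosedImmersion i := by
  refine ⟨inferInstance, fun y => ?_⟩
  haveI := hY y
  obtain ⟨V, hyV, hcl, hreg⟩ := (Groth.Agent.S2889.result i y).mpr (hX (i y))
  obtain ⟨U', hU', hzU', rs, hrs, hker⟩ := hreg ⟨y, hyV⟩
  have hU : IsAffineOpen (V.ι ''ᵁ U') := hU'.image_of_isOpenImmersion V.ι
  have hyU : i y ∈ V.ι ''ᵁ U' := by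
    refine ⟨(i ∣_ V) ⟨y, hyV⟩, hzU', ?_⟩
    have h1 := congrArg (fun φ => φ.base (⟨y, hyV⟩ : ↥(i ⁻¹ᵁ V))) (morphismRestrict_ι i V)
    exact h1
  have hker' : i.ker.ideal ⟨V.ι ''ᵁ U', hU⟩ = Ideal.ofList rs := by
    rw [← hker]
    exact (Scheme.ker_morphismRestrict_ideal i V ⟨U', hU'⟩).symm
  exact ⟨V.ι ''ᵁ U', hU, hyU, rs, hrs, hker'⟩

theorem main {X Y Xt : Scheme.{u}} [IsLocallyNoetherian X]
    (hreg : ∀ x : X, IsRegularLocalRing (X.presheaf.stalk x))
    (i : Y ⟶ X) [IsClosedImmersion i]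
    (hregY : ∀ y : Y, IsRegularLocalRing (Y.presheaf.stalk y))
    (π : Xt ⟶ X) (hπ : BlowUp.IsBlowUp π i.ker) (z : Xt) :
    IsRegularLocalRing (Xt.presheaf.stalk z) := by
  haveI : IsLocallyNoetherian Y := LocallyOfFiniteType.isLocallyNoetherian i
  by_cases hs : π z ∈ i.ker.support
  · have hrange : π z ∈ Set.range i := by
      have h1 : π z ∈ closure (Set.range i) := by
        rw [← Scheme.Hom.support_ker i]
        exact hs
      rwa [i.isClosedEmbedding.isClosed_range.closure_eq] at h1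
    obtain ⟨y, hy⟩ := hrange
    obtain ⟨U, hU, hxU, rs, hrs, hker⟩ := (isRegularClosedImmersion_of_regular i hreg hregY).2 y
    rw [hy] at hxU
    have hIeq : i.ker.ideal ⟨U, hU⟩ = Ideal.span (Set.range rs.get) := by
      rw [← Groth.Agent.Lib.Helper9.QuasiReg.ofList_ofFn, List.ofFn_get]
      exact hker
    have hwr : RingTheory.Sequence.IsWeaklyRegular Γ(X, U) (List.ofFn rs.get) := by
      rw [List.ofFn_get]
      exact hrs.toIsWeaklyRegular
    obtain ⟨j₀, ζ, hζi, ⟨w, hw⟩, -⟩ := exists_chart_gens i.ker π hπ U hU rs.get hIeq z hxU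
    haveI : IsRegularRing Γ(X, U) := isRegularRing_sections hreg ⟨U, hU⟩
    -- the quotient `Γ(X, U) / I(U) ≅ Γ(Y, i⁻¹ U)` is regular
    haveI : IsRegularRing Γ(Y, i ⁻¹ᵁ U) := isRegularRing_sections hregY ⟨i ⁻¹ᵁ U, hU.preimage i⟩
    haveI : IsRegularRing (Γ(X, U) ⧸ i.ker.ideal ⟨U, hU⟩) := by
      rw [i.ker_apply ⟨U, hU⟩]
      exact IsRegularRing.of_ringEquiv
        (RingHom.quotientKerEquivOfSurjective (i.app_surjective U hU)).symm
    haveI := isRegularRing_Rp' rs.get j₀ (i.ker.ideal ⟨U, hU⟩) hIeq hwr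
    rw [← hw]
    exact Groth.Agent.Lib.Helper2.BlowReg.isRegularLocalRing_stalk_of_chart ζ w
  · haveI := Groth.Agent.Lib.Helper3.isIso_morphismRestrict_of_isBlowUp i.ker π hπ
    haveI := Groth.Agent.Lib.Helper17.BlowUpMero.isIso_stalkMap_of_isIso_morphismRestrict π
      i.ker.support.compl z hs
    haveI := hreg (π z)
    exact IsRegularLocalRing.of_ringEquiv (asIso (π.stalkMap z)).commRingCatIsoToRingEquiv

end Groth.Agent.Lib.Helper2.RegBlow
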